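/-
More of the small kit: general words, tables of commutators, generated normal subgroups of index three.
-/
import Cfsg.Agent.Lib.ChevSmall.Kit

set_option autoImplicit false

namespace Cfsg.Agent.Lib.ChevSmall

open Cfsg.Agent.Lib.Compute

theorem decodeW_lt' {B fuel c a : ℕ} (hB : 2 ≤ B) (h : a ∈ decodeW B fuel c) : a < B - 1 := by
  induction fuel generalizing c with
  | zero => simp [decodeW] at h
  | succ f ih =>
    have h1 : decodeW B (f + 1) c = bcond (Nat.beq c 0) [] (Nat.pred (Nat.mod c B) :: decodeW B f (Nat.div c B)) := rfl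
    rw [h1] at h
    cases hc : Nat.beq c 0
    · rw [hc] at h
      simp only [bcond_false, List.mem_cons] at h
      rcases h with h | h
      · have : Nat.mod c B < B := Nat.mod_lt _ (by omega)
        subst h
        show Nat.pred (Nat.mod c B) < B - 1
        rw [Nat.pred_eq_sub_one]
        omega
      · exact ih h
    · rw [hc] at h
      simp at h

/-- The image of a commutator under a homomorphism, from a pointwise identity. -/
theorem comm_table {G : Type*} [Group G] {n : ℕ} (ρ : G →* Equiv.Perm (Fin n)) (x y : G) {τ : Equiv.Perm (Fin n)}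
    (h : ∀ i, τ (ρ y (ρ x i)) = ρ x (ρ y i)) : ρ (x * y * x⁻¹ * y⁻¹) = τ := by
  have h1 : τ * ρ y * ρ x = ρ x * ρ y := by
    ext1 i
    exact h i
  have h2 : τ = ρ x * ρ y * (ρ x)⁻¹ * (ρ y)⁻¹ := by
    rw [← h1]
    group
  rw [h2]
  simp only [map_mul, map_inv]

/-- A subgroup of index three normalised by a generating set contains the derived subgroup. -/
theorem comm_le_of_index_three {G : Type*} [Group G] [Finite G] (A : Subgroup G) (S : Set G)
    (hS : Subgroup.closure S = ⊤) (hn : ∀ s ∈ S, A.map (MulAut.conj s).toMonoidHom ≤ A)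
    (hi : A.index = 3) : commutator G ≤ A := by
  have hnorm : A.Normal := by
    have hN : (⊤ : Subgroup G) ≤ Subgroup.normalizer (A : Set G) := by
      rw [← hS, Subgroup.closure_le]
      intro s hs
      have hmap : A.map (MulAut.conj s).toMonoidHom = A := by
        apply Subgroup.eq_of_le_of_card_ge (hn s hs)
        exact le_of_eq (Subgroup.card_map_of_injective (MulAut.conj s).injective).symm
      rw [SetLike.mem_coe, Subgroup.mem_normalizer_iff]
      intro h
      constructor
      · intro hh
        rw [← hmap]
        exact ⟨h, hh, rfl⟩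
      · intro hh
        rw [← hmap] at hh
        obtain ⟨k, hk, hk2⟩ := hh
        have : k = h := (MulAut.conj s).injective hk2
        rwa [← this]
    exact Subgroup.normalizer_eq_top_iff.mp (top_le_iff.mp hN)
  haveI := hnorm
  haveI : Fact (Nat.Prime 3) := ⟨Nat.prime_three⟩
  have hc : Nat.card (G ⧸ A) = 3 := hi
  haveI : IsCyclic (G ⧸ A) := isCyclic_of_prime_card hc
  letI : CommGroup (G ⧸ A) := IsCyclic.commGroup
  have h := Abelianization.commutator_subset_ker (QuotientGroup.mk' A)
  rwa [QuotientGroup.ker_mk'] at h

end Cfsg.Agent.Lib.ChevSmall
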